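import Mathlib
import Groth.Agent.SpreadLib.Basic

/-!
# Integral covers on which quasi-finite flat covers split Zariski locally

For a ring `A` and a family of algebraically closed `A`-fields `K i`, the integral closure of `A`
in `∏ i, K i` has domains as local rings, and every monic polynomial over it has a root.  Hence a
faithfully flat quasi-finite finitely presented algebra has sections Zariski locally on it.
-/

set_option autoImplicit false
set_option linter.style.haveILetI false

universe u

namespace Groth.Agent.AICCover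

open Polynomial TensorProduct

/-- Every monic polynomial of positive degree has a root. -/
def MonicRoot (R : Type u) [CommRing R] : Prop :=
  ∀ p : R[X], p.Monic → 0 < p.natDegree → ∃ r, p.IsRoot r

theorem MonicRoot.of_isLocalization {R S : Type u} [CommRing R] [CommRing S] [Algebra R S]
    (M : Submonoid R) [IsLocalization M S] (h : MonicRoot R) : MonicRoot S := by
  intro p hp hdeg
  rcases subsingleton_or_nontrivial S with _ | _
  · exact ⟨0, Subsingleton.elim _ _⟩
  obtain ⟨q, hq, -, hqm⟩ := lifts_and_natDegree_eq_and_monic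
    (IsLocalization.scaleRoots_commonDenom_mem_lifts M p (by rw [hp.leadingCoeff]; exact one_mem _))
    (by rwa [monic_scaleRoots_iff])
  let s := IsLocalization.commonDenom M p.support p.coeff
  obtain ⟨r, hr⟩ := h q hqm (by
    by_contra h0
    have h1 : q = 1 := (hqm.natDegree_eq_zero).1 (by omega)
    have h2 := congrArg natDegree hq
    rw [h1, Polynomial.map_one, natDegree_one, natDegree_scaleRoots] at h2
    omega)
  obtain ⟨u, hu⟩ := IsLocalization.map_units S s
  refine ⟨↑u⁻¹ * algebraMap R S r, ?_⟩
  have h3 : (scaleRoots p (algebraMap R S s)).eval (algebraMap R S r) = 0 := by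
    rw [← hq, eval_map, eval₂_at_apply, hr, map_zero]
  have h4 := scaleRoots_eval_mul p (↑u⁻¹ * algebraMap R S r) (algebraMap R S s)
  rw [← mul_assoc, ← hu, Units.mul_inv, one_mul, hu, h3] at h4
  exact ((IsLocalization.map_units S s).pow p.natDegree).mul_right_eq_zero.1 h4.symm

theorem MonicRoot.isAlgClosed {k : Type u} [Field k] (h : MonicRoot k) : IsAlgClosed k :=
  IsAlgClosed.of_exists_root _ fun p hp hirr => h p hp hirr.natDegree_pos

/-- An element of a domain which is integral over a ring with roots comes from the ring. -/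
theorem MonicRoot.mem_range {R S : Type u} [CommRing R] [CommRing S] [IsDomain S] [Algebra R S]
    (h : MonicRoot R) {z : S} (hz : IsIntegral R z) : z ∈ Set.range (algebraMap R S) := by
  obtain ⟨p, hp, hpz⟩ := hz
  induction hn : p.natDegree using Nat.strong_induction_on generalizing p with
  | _ n ih =>
    by_cases h0 : p.natDegree = 0
    · rw [hp.natDegree_eq_zero.1 h0, eval₂_one] at hpz
      exact absurd hpz one_ne_zero
    obtain ⟨r, hr⟩ := h p hp (Nat.pos_of_ne_zero h0)
    obtain ⟨q, hq⟩ := dvd_iff_isRoot.2 hr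
    have hqm : q.Monic := (monic_X_sub_C r).of_mul_monic_left (hq ▸ hp)
    rw [hq, eval₂_mul, mul_eq_zero] at hpz
    rcases hpz with h1 | h1
    · refine ⟨r, ?_⟩
      rw [eval₂_sub, eval₂_X, eval₂_C, sub_eq_zero] at h1
      exact h1.symm
    · refine ih q.natDegree ?_ q hqm h1 rfl
      rcases subsingleton_or_nontrivial R with _ | _
      · exact absurd (Subsingleton.elim p 0 ▸ natDegree_zero) h0
      rw [← hn, hq, Monic.natDegree_mul (monic_X_sub_C r) hqm, natDegree_X_sub_C]
      omega

variable {A : Type u} [CommRing A] {ι : Type u} (K : ι → Type u) [∀ i, Field (K i)]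
  [∀ i, Algebra A (K i)]

/-- The integral closure of `A` in a product of fields. -/
abbrev C : Type u := integralClosure A (Π i, K i)

theorem monicRoot_C [∀ i, IsAlgClosed (K i)] : MonicRoot (C (A := A) K) := by
  intro p hp hdeg
  let e : ∀ i, C (A := A) K →+* K i := fun i => (Pi.evalRingHom K i).comp (algebraMap _ (Π i, K i))
  have hroot : ∀ i, ∃ x : K i, (p.map (e i)).eval x = 0 := fun i => IsAlgClosed.exists_root _ (by
    rw [degree_eq_natDegree (hp.map _).ne_zero, hp.natDegree_map, Ne, Nat.cast_eq_zero]; omega)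
  choose x hx using hroot
  have h0 : eval₂ (algebraMap (C (A := A) K) (Π i, K i)) x p = 0 := funext fun i => by
    have := hom_eval₂ p (algebraMap (C (A := A) K) (Π i, K i)) (Pi.evalRingHom K i) x
    rw [Pi.evalRingHom_apply] at this
    rw [this, Pi.zero_apply, ← eval_map]
    exact hx i
  refine ⟨⟨x, isIntegral_trans x ⟨p, hp, h0⟩⟩, Subtype.ext ?_⟩
  rw [← eval₂_id, show ((eval₂ (RingHom.id (C (A := A) K)) ⟨x, _⟩ p : C (A := A) K) : Π i, K i) = _ from
    hom_eval₂ p (RingHom.id _) (algebraMap (C (A := A) K) (Π i, K i)) _, RingHom.comp_id]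
  exact h0

theorem isDomain_localization (q : Ideal (C (A := A) K)) [q.IsPrime] : IsDomain (Localization.AtPrime q) := by
  classical
  haveI : Nontrivial (Localization.AtPrime q) := inferInstance
  suffices hz : NoZeroDivisors (Localization.AtPrime q) from NoZeroDivisors.to_isDomain (Localization.AtPrime q)
  refine ⟨fun {a b} hab => ?_⟩
  obtain ⟨x, s, rfl⟩ := IsLocalization.exists_mk'_eq q.primeCompl a
  obtain ⟨y, t, rfl⟩ := IsLocalization.exists_mk'_eq q.primeCompl b
  rw [← IsLocalization.mk'_mul, IsLocalization.mk'_eq_zero_iff] at hab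
  obtain ⟨m, hm⟩ := hab
  let e : Π i, K i := fun i => if (x : Π i, K i) i = 0 then 0 else 1
  have he : IsIntegral A e := ⟨X ^ 2 - X, by monicity!, funext fun i => by
    simp only [eval₂_sub, eval₂_pow, eval₂_X, Pi.sub_apply, Pi.pow_apply, Pi.zero_apply, e]
    split <;> simp⟩
  by_cases hq : (⟨e, he⟩ : C (A := A) K) ∈ q
  · left
    have h1 : (1 - ⟨e, he⟩ : C (A := A) K) ∉ q := fun h => q.ne_top_iff_one.1 (Ideal.IsPrime.ne_top ‹_›) (by
      simpa using add_mem h hq)
    refine (IsLocalization.mk'_eq_zero_iff _ _).2 ⟨⟨_, h1⟩, Subtype.ext (funext fun i => ?_)⟩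
    show (1 - e i) * (x : Π i, K i) i = 0
    by_cases hx : (x : Π i, K i) i = 0 <;> simp [e, hx]
  · right
    refine (IsLocalization.mk'_eq_zero_iff _ _).2 ⟨⟨_, q.primeCompl.mul_mem m.2 (show (⟨e, he⟩ : C (A := A) K) ∈ q.primeCompl from hq)⟩,
      Subtype.ext (funext fun i => ?_)⟩
    have h2 := congrFun (congrArg (fun z : C (A := A) K => (z : Π i, K i)) hm) i
    show (((m : C (A := A) K) : Π i, K i) i * e i) * (y : Π i, K i) i = 0
    by_cases hx : (x : Π i, K i) i = 0
    · simp [e, hx]
    · simp only [e, if_neg hx, mul_one]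
      simp only [MulMemClass.coe_mul, Pi.mul_apply, ZeroMemClass.coe_zero, Pi.zero_apply] at h2
      rcases mul_eq_zero.1 h2 with h3 | h3
      · rw [h3, zero_mul]
      · rw [(mul_eq_zero.1 h3).resolve_left hx, mul_zero]

/-- Over a local domain with roots, a quasi-finite flat algebra with nonempty closed fibre has a section. -/
theorem exists_section {D B : Type u} [CommRing D] [IsDomain D] [IsLocalRing D] [CommRing B] [Algebra D B]
    [Algebra.FiniteType D B] [Algebra.QuasiFinite D B] [Module.FaithfullyFlat D B] (h : MonicRoot D) :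
    Nonempty (B →ₐ[D] D) := by
  obtain ⟨Q, _, _⟩ := Ideal.exists_isPrime_liesOver_of_faithfullyFlat (B := B) (IsLocalRing.maximalIdeal D)
  obtain ⟨P, hPQ, _, hP⟩ := Ideal.exists_ideal_le_liesOver_of_le (p := (⊥ : Ideal D))
    (q := IsLocalRing.maximalIdeal D) Q bot_le
  let E := B ⧸ P
  haveI : Algebra.FiniteType D E := Algebra.FiniteType.of_surjective (Ideal.Quotient.mkₐ D P) Ideal.Quotient.mk_surjective
  haveI : Algebra.QuasiFinite D E := inferInstance
  let Q' : Ideal E := Q.map (Ideal.Quotient.mk P)
  haveI : Q'.IsPrime := Ideal.map_isPrime_of_surjective Ideal.Quotient.mk_surjective (by rwa [Ideal.mk_ker])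
  obtain ⟨r, hr, hri, hx⟩ := Algebra.zariskisMainProperty_iff.1
    (Algebra.ZariskisMainProperty.of_finiteType_of_weaklyQuasiFiniteAt (R := D) Q')
  obtain ⟨d, rfl⟩ := h.mem_range hri
  have hd : IsUnit d := by
    by_contra hd
    refine hr ?_
    have : d ∈ Q.under D := (Q.over_def (IsLocalRing.maximalIdeal D)) ▸ hd
    exact Ideal.mem_map_of_mem (Ideal.Quotient.mk P) this
  have hsurj : Function.Surjective (algebraMap D E) := fun z => by
    obtain ⟨m, hm⟩ := hx z
    obtain ⟨d', hd'⟩ := h.mem_range hm
    refine ⟨↑(hd.pow m).unit⁻¹ * d', ?_⟩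
    rw [map_mul, hd', ← map_pow, ← mul_assoc, ← map_mul, IsUnit.val_inv_mul, map_one, one_mul]
  have hinj : Function.Injective (algebraMap D E) := (RingHom.injective_iff_ker_eq_bot _).2 (by
    rw [IsScalarTower.algebraMap_eq D B E, ← RingHom.comap_ker, Ideal.Quotient.algebraMap_eq, Ideal.mk_ker]
    exact hP.over.symm)
  exact ⟨(AlgEquiv.ofBijective (Algebra.ofId D E) ⟨hinj, hsurj⟩).symm.toAlgHom.comp (Ideal.Quotient.mkₐ D P)⟩

/-- Quasi-finite faithfully flat algebras have sections Zariski locally on a ring with roots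
whose local rings are domains. -/
theorem exists_local_section_of_monicRoot {R C' : Type u} [CommRing R] [CommRing C'] [Algebra R C']
    (h : MonicRoot C') (B : Type u) [CommRing B] [Algebra R B]
    [Algebra.FinitePresentation R B] [Algebra.QuasiFinite R B] [Module.FaithfullyFlat R B]
    (q : Ideal C') [q.IsPrime] [IsDomain (Localization.AtPrime q)] :
    ∃ g ∉ q, Nonempty (B →ₐ[R] Localization.Away g) := by
  obtain ⟨s⟩ := exists_section (D := Localization.AtPrime q) (B := Localization.AtPrime q ⊗[R] B)
    (h.of_isLocalization q.primeCompl)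
  obtain ⟨g, hg, φ, -⟩ := SpreadLib.exists_lift_away (R := R) q
    ((s.restrictScalars R).comp Algebra.TensorProduct.includeRight)
  exact ⟨g, hg, ⟨φ⟩⟩

/-- Quasi-finite faithfully flat algebras have sections Zariski locally on `C`. -/
theorem exists_local_section [∀ i, IsAlgClosed (K i)] (B : Type u) [CommRing B] [Algebra A B]
    [Algebra.FinitePresentation A B] [Algebra.QuasiFinite A B] [Module.FaithfullyFlat A B]
    (q : Ideal (C (A := A) K)) [q.IsPrime] :
    ∃ g ∉ q, Nonempty (B →ₐ[A] Localization.Away g) := by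
  haveI := isDomain_localization K q
  exact exists_local_section_of_monicRoot (monicRoot_C K) B q

/-- The cover is surjective as soon as every prime is a kernel. -/
theorem comap_surjective (h : ∀ p : PrimeSpectrum A, ∃ i, RingHom.ker (algebraMap A (K i)) = p.asIdeal) :
    Function.Surjective (PrimeSpectrum.comap (algebraMap A (C (A := A) K))) := by
  intro p
  obtain ⟨i, hi⟩ := h p
  let e : C (A := A) K →+* K i := (Pi.evalRingHom K i).comp (algebraMap _ (Π i, K i))
  haveI := RingHom.ker_isPrime e
  refine ⟨⟨RingHom.ker e, inferInstance⟩, PrimeSpectrum.ext ?_⟩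
  show (RingHom.ker e).comap (algebraMap A (C (A := A) K)) = p.asIdeal
  rw [RingHom.comap_ker, ← hi]
  rfl

end Groth.Agent.AICCover
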