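import Mathlib
import Groth.Agent.AICCover.Ring
import Groth.Agent.QFCoverLib.Scheme

/-!
# Finite covers of affine schemes splitting fppf covers Zariski locally
-/

set_option autoImplicit false
set_option linter.style.haveILetI false

universe u

namespace Groth.Agent.AICCover

open TensorProduct CategoryTheory CategoryTheory.Limits AlgebraicGeometry

variable {R : Type u} [CommRing R]

/-- An integral cover on which finitely generated algebras have maps Zariski locally gives a finite one. -/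
theorem exists_finite_of_integral {C : Type u} [CommRing C] [Algebra R C] [Algebra.IsIntegral R C]
    (hC : Function.Surjective (PrimeSpectrum.comap (algebraMap R C)))
    {ι : Type u} (B : ι → Type u) [∀ k, CommRing (B k)] [∀ k, Algebra R (B k)] [∀ k, Algebra.FiniteType R (B k)]
    (h : ∀ q : PrimeSpectrum C, ∃ (a : C) (k : ι), a ∉ q.asIdeal ∧ Nonempty (B k →ₐ[R] Localization.Away a)) :
    ∃ (C' : Type u) (_ : CommRing C') (_ : Algebra R C') (s : Finset C'), Module.Finite R C' ∧
      Function.Surjective (PrimeSpectrum.comap (algebraMap R C')) ∧ Ideal.span (s : Set C') = ⊤ ∧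
      ∀ a ∈ s, ∃ k, Nonempty (B k →ₐ[R] Localization.Away a) := by
  classical
  choose a k ha φ using h
  have hspan : Ideal.span (Set.range a) = ⊤ := by
    by_contra hne
    obtain ⟨M, hM, hle⟩ := Ideal.exists_le_maximal _ hne
    exact ha ⟨M, hM.isPrime⟩ (hle (Ideal.subset_span ⟨_, rfl⟩))
  obtain ⟨s₀, hs₀, h1⟩ := Submodule.mem_span_finite_of_mem_span (hspan.ge (Submodule.mem_top : (1 : C) ∈ ⊤))
  obtain ⟨Q, -, rfl⟩ := Finset.subset_set_image_iff.1 (Set.image_univ.symm ▸ hs₀ : (s₀ : Set C) ⊆ a '' Set.univ)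
  obtain ⟨c, hc⟩ := (Submodule.mem_span_range_iff_exists_fun C (v := fun q : Q => a q)).1 (by
    rwa [show Set.range (fun q : Q => a q) = ↑(Q.image a) by ext x; simp])
  choose G hG using fun q => (Algebra.FiniteType.out : (⊤ : Subalgebra R (B (k q))).FG)
  choose num hnum using fun (q : PrimeSpectrum C) (b : B (k q)) =>
    IsLocalization.surj (Submonoid.powers (a q)) ((φ q).some b)
  let S : Set C := ((Q : Set _).image a ∪ Set.range c) ∪
    ⋃ q ∈ Q, (fun b => (num q b).1) '' (G q : Set _)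
  let C' : Subalgebra R C := Algebra.adjoin R S
  have hfin : S.Finite := ((Q.finite_toSet.image a).union (Set.finite_range c)).union
    (Q.finite_toSet.biUnion fun q _ => (G q).finite_toSet.image _)
  haveI : Module.Finite R C' := Module.Finite.iff_fg.2
    (fg_adjoin_of_finite hfin fun x _ => Algebra.IsIntegral.isIntegral x)
  let a' : PrimeSpectrum C → C' := fun q =>
    if hq : q ∈ Q then ⟨a q, Algebra.subset_adjoin (Or.inl (Or.inl ⟨q, hq, rfl⟩))⟩ else 0
  have ha' : ∀ q ∈ Q, (a' q : C) = a q := fun q hq => by simp [a', hq]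
  refine ⟨C', inferInstance, inferInstance, Q.image a', ‹_›, ?_, ?_, ?_⟩
  · intro p
    obtain ⟨q, hq⟩ := hC p
    exact ⟨PrimeSpectrum.comap C'.val.toRingHom q, by rw [← hq]; rfl⟩
  · rw [Ideal.eq_top_iff_one]
    have hone : (1 : C') ∈ Ideal.span (Q.image a' : Set C') := by
      have : (1 : C') = ∑ q : Q, ⟨c q, Algebra.subset_adjoin (Or.inl (Or.inr ⟨q, rfl⟩))⟩ * a' q := by
        apply Subtype.ext
        rw [AddSubmonoidClass.coe_finset_sum]
        refine hc.symm.trans (Finset.sum_congr rfl fun q _ => ?_)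
        show c q * a q = c q * (a' q : C)
        rw [ha' q q.2]
      rw [this]
      exact sum_mem fun q _ => Ideal.mul_mem_left _ _ (Ideal.subset_span (Finset.mem_image_of_mem _ q.2))
    exact hone
  · intro x hx
    obtain ⟨q, hq, rfl⟩ := Finset.mem_image.1 hx
    have hy : Submonoid.powers (a' q) ≤ (Submonoid.powers (a q)).comap C'.val.toRingHom := by
      rintro _ ⟨n, rfl⟩
      exact ⟨n, by simp [ha' q hq]⟩
    let μ : Localization.Away (a' q) →ₐ[R] Localization.Away (a q) :=
      { IsLocalization.map (Localization.Away (a q)) C'.val.toRingHom hy with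
        commutes' := fun r => by
          show IsLocalization.map _ C'.val.toRingHom hy (algebraMap R (Localization.Away (a' q)) r) = _
          rw [IsScalarTower.algebraMap_apply R C' (Localization.Away (a' q)), IsLocalization.map_eq]
          exact (IsScalarTower.algebraMap_apply R C (Localization.Away (a q)) r).symm }
    have hinj : Function.Injective μ := by
      refine (injective_iff_map_eq_zero μ).2 fun z hz => ?_
      obtain ⟨y, t, rfl⟩ := IsLocalization.exists_mk'_eq (Submonoid.powers (a' q)) z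
      have hz' : IsLocalization.map (Localization.Away (a q)) C'.val.toRingHom hy
          (IsLocalization.mk' _ y t) = 0 := hz
      rw [IsLocalization.map_mk', IsLocalization.mk'_eq_zero_iff] at hz'
      obtain ⟨⟨_, n, rfl⟩, hn⟩ := hz'
      refine (IsLocalization.mk'_eq_zero_iff _ _).2 ⟨⟨_, n, rfl⟩, Subtype.ext ?_⟩
      simpa [ha' q hq] using hn
    have hrange : ∀ b : B (k q), (φ q).some b ∈ μ.range := by
      intro b
      have hb : b ∈ Algebra.adjoin R (G q : Set _) := (hG q).symm ▸ Algebra.mem_top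
      refine (Algebra.adjoin_le (S := μ.range.comap (φ q).some) ?_) hb
      intro g hg
      obtain ⟨⟨_, n, hn⟩, hnd⟩ : ∃ d : Submonoid.powers (a q), (num q g).2 = d := ⟨_, rfl⟩
      have hmem : (num q g).1 ∈ C' := Algebra.subset_adjoin (Or.inr (Set.mem_biUnion hq ⟨g, hg, rfl⟩))
      have hnd' : ((num q g).2 : C) = a q ^ n := (congrArg Subtype.val hnd).trans hn.symm
      refine ⟨IsLocalization.mk' _ ⟨_, hmem⟩ (⟨a' q ^ n, n, rfl⟩ : Submonoid.powers (a' q)), ?_⟩
      show IsLocalization.map (Localization.Away (a q)) C'.val.toRingHom hy _ = _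
      rw [IsLocalization.map_mk', IsLocalization.mk'_eq_iff_eq_mul]
      show algebraMap C _ (num q g).1 = _ * algebraMap C _ ((a' q ^ n : C') : C)
      rw [SubmonoidClass.coe_pow, ha' q hq, ← hnd']
      exact (hnum q g).symm
    exact ⟨k q, ⟨((AlgEquiv.ofInjective μ hinj).symm.toAlgHom).comp ((φ q).some.codRestrict μ.range hrange)⟩⟩

/-- For a finite jointly surjective fppf family of affine schemes over an affine one, local maps from
the members' rings to an integral cover. -/
theorem exists_local_maps {U : Scheme.{u}} [IsAffine U] {ι : Type u} [Finite ι] (W : ι → Scheme.{u})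
    [∀ k, IsAffine (W k)] (f : ∀ k, W k ⟶ U) [∀ k, Flat (f k)] [∀ k, LocallyOfFinitePresentation (f k)]
    (hs : ∀ x : U, ∃ k, x ∈ Set.range (f k))
    {C : Type u} [CommRing C] [Algebra Γ(U, ⊤) C] (hmr : MonicRoot C)
    (hdom : ∀ q : PrimeSpectrum C, IsDomain (Localization.AtPrime q.asIdeal)) (q : PrimeSpectrum C) :
    ∃ (a : C) (k : ι) (h : Spec (CommRingCat.of (Localization.Away a)) ⟶ W k), a ∉ q.asIdeal ∧
      h ≫ f k = Spec.map (CommRingCat.ofHom (algebraMap Γ(U, ⊤) (Localization.Away a))) ≫ U.isoSpec.inv := by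
  let p : ∐ W ⟶ U := Sigma.desc f
  haveI : Flat p := IsZariskiLocalAtSource.sigmaDesc fun _ => inferInstance
  haveI : LocallyOfFinitePresentation p := IsZariskiLocalAtSource.sigmaDesc fun _ => inferInstance
  haveI : Surjective p := Surjective.sigmaDesc_of_union_range_eq_univ
    (Set.eq_univ_iff_forall.2 fun x => Set.mem_iUnion.2 (hs x))
  obtain ⟨T, k, hT, hfl, hfp, hqf, hsu⟩ := QFCoverLib.exists_affine_qf_of_affine p
  obtain ⟨ψ, hψ⟩ := Spec.homEquiv.symm.surjective (T.isoSpec.inv ≫ (k ≫ p) ≫ U.isoSpec.hom)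
  have hψ' : Spec.map ψ = T.isoSpec.inv ≫ (k ≫ p) ≫ U.isoSpec.hom := hψ
  algebraize [ψ.hom]
  haveI : Module.Flat Γ(U, ⊤) Γ(T, ⊤) := (HasRingHomProperty.Spec_iff (P := @Flat) (φ := ψ)).1 (by
    rw [hψ']; infer_instance)
  haveI : Algebra.FinitePresentation Γ(U, ⊤) Γ(T, ⊤) :=
    (HasRingHomProperty.Spec_iff (P := @LocallyOfFinitePresentation) (φ := ψ)).1 (by rw [hψ']; infer_instance)
  haveI : Algebra.QuasiFinite Γ(U, ⊤) Γ(T, ⊤) :=
    (HasRingHomProperty.Spec_iff (P := @LocallyQuasiFinite) (φ := ψ)).1 (by rw [hψ']; infer_instance)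
  haveI : Module.FaithfullyFlat Γ(U, ⊤) Γ(T, ⊤) := by
    have h : Surjective (Spec.map ψ) := by rw [hψ']; infer_instance
    exact Module.FaithfullyFlat.of_comap_surjective fun y => h.surj y
  haveI := hdom q
  obtain ⟨a, ha, ⟨φ⟩⟩ := exists_local_section_of_monicRoot (R := Γ(U, ⊤)) hmr Γ(T, ⊤) q.asIdeal
  let Z := Spec (CommRingCat.of (Localization.Away a))
  let r : Z ⟶ ∐ W := Spec.map (CommRingCat.ofHom φ.toRingHom) ≫ T.isoSpec.inv ≫ k
  have hr : r ≫ p = Spec.map (CommRingCat.ofHom (algebraMap Γ(U, ⊤) (Localization.Away a))) ≫ U.isoSpec.inv := by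
    have h1 : (T.isoSpec.inv ≫ k) ≫ p = Spec.map ψ ≫ U.isoSpec.inv := by rw [hψ']; simp
    rw [Category.assoc, h1, ← Spec.map_comp_assoc]
    congr 2
    ext x
    exact φ.commutes x
  obtain ⟨z, hz⟩ : q ∈ Set.range (PrimeSpectrum.comap (algebraMap C (Localization.Away a))) := by
    rw [PrimeSpectrum.localization_away_comap_range (Localization.Away a) a]
    exact ha
  obtain ⟨i, hi⟩ : ∃ i, r z ∈ (Sigma.ι W i).opensRange := by
    obtain ⟨i, y, hy⟩ := (sigmaOpenCover W).exists_eq (r z)
    exact ⟨i, y, hy⟩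
  obtain ⟨_, ⟨b₀, rfl⟩, hb₀, hsub⟩ := PrimeSpectrum.isTopologicalBasis_basic_opens.exists_subset_of_mem_open
    hi (r ⁻¹ᵁ (Sigma.ι W i).opensRange).isOpen
  obtain ⟨b, ⟨_, n, rfl⟩, hb⟩ : ∃ (b : C) (m : Submonoid.powers a),
      b₀ * algebraMap C (Localization.Away a) m = algebraMap C _ b :=
    ⟨_, _, (IsLocalization.surj (Submonoid.powers a) b₀).choose_spec⟩
  have hqz : z.asIdeal.comap (algebraMap C (Localization.Away a)) = q.asIdeal := congrArg PrimeSpectrum.asIdeal hz
  have hbq : b ∉ q.asIdeal := fun h => by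
    rw [← hqz, Ideal.mem_comap, ← hb] at h
    rcases z.isPrime.mem_or_mem h with h | h
    · exact hb₀ h
    · exact ha (q.isPrime.mem_of_pow_mem n (hqz ▸ h))
  have hu : IsUnit (algebraMap C (Localization.Away (a * b)) a) :=
    isUnit_of_dvd_unit (map_dvd _ (dvd_mul_right a b)) (IsLocalization.Away.algebraMap_isUnit (a * b))
  let ν : Localization.Away a →+* Localization.Away (a * b) := IsLocalization.Away.lift a hu
  have hνc : ∀ x, ν (algebraMap C _ x) = algebraMap C _ x := fun x => IsLocalization.Away.lift_eq a hu x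
  have hνu : IsUnit (ν b₀) := by
    have h := congrArg ν hb
    rw [map_mul, hνc, hνc] at h
    exact isUnit_of_mul_isUnit_left (h.symm ▸ isUnit_of_dvd_unit (map_dvd _ (dvd_mul_left b a))
      (IsLocalization.Away.algebraMap_isUnit (a * b)))
  let Z' := Spec (CommRingCat.of (Localization.Away (a * b)))
  let r' : Z' ⟶ ∐ W := Spec.map (CommRingCat.ofHom ν) ≫ r
  have hr' : Set.range r' ⊆ Set.range (Sigma.ι W i) := by
    rintro _ ⟨y, rfl⟩
    refine hsub (show PrimeSpectrum.comap ν y ∈ PrimeSpectrum.basicOpen b₀ from fun h => ?_)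
    exact y.isPrime.ne_top (Ideal.eq_top_of_isUnit_mem _ h hνu)
  refine ⟨a * b, i, IsOpenImmersion.lift (Sigma.ι W i) r' hr', fun h => (q.isPrime.mem_or_mem h).elim ha hbq, ?_⟩
  rw [show f i = Sigma.ι W i ≫ p from (Sigma.ι_desc _ _).symm, IsOpenImmersion.lift_fac_assoc,
    Category.assoc, hr, ← Spec.map_comp_assoc]
  congr 2
  ext x
  show ν (algebraMap Γ(U, ⊤) _ x) = algebraMap Γ(U, ⊤) _ x
  rw [IsScalarTower.algebraMap_apply Γ(U, ⊤) C (Localization.Away a), hνc,
    IsScalarTower.algebraMap_apply Γ(U, ⊤) C (Localization.Away (a * b))]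

/-- A finite surjective morphism to an affine scheme on whose finitely many affine opens a given
finite fppf family has sections. -/
theorem exists_finite_splitting {U : Scheme.{u}} [IsAffine U] {ι : Type u} [Finite ι] (W : ι → Scheme.{u})
    [∀ k, IsAffine (W k)] (f : ∀ k, W k ⟶ U) [∀ k, Flat (f k)] [∀ k, LocallyOfFinitePresentation (f k)]
    (hs : ∀ x : U, ∃ k, x ∈ Set.range (f k)) :
    ∃ (P : Scheme.{u}) (π : P ⟶ U) (m : ℕ) (Z : Fin m → Scheme.{u}) (j : ∀ l, Z l ⟶ P),
      IsFinite π ∧ Surjective π ∧ (∀ l, IsAffine (Z l)) ∧ (∀ l, IsOpenImmersion (j l)) ∧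
      (∀ x : P, ∃ l, x ∈ Set.range (j l)) ∧ ∀ l, ∃ (k : ι) (h : Z l ⟶ W k), h ≫ f k = j l ≫ π := by
  classical
  let K : PrimeSpectrum Γ(U, ⊤) → Type u := fun p => AlgebraicClosure p.asIdeal.ResidueField
  let C₀ := C (A := Γ(U, ⊤)) K
  letI : ∀ k, Algebra Γ(U, ⊤) Γ(W k, ⊤) := fun k => (f k).appTop.hom.toAlgebra
  haveI : ∀ k, Algebra.FinitePresentation Γ(U, ⊤) Γ(W k, ⊤) := fun k =>
    (HasRingHomProperty.iff_of_isAffine (P := @LocallyOfFinitePresentation) (f := f k)).1 inferInstance
  haveI : ∀ k, Algebra.FiniteType Γ(U, ⊤) Γ(W k, ⊤) := fun k => inferInstance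
  have hsur : Function.Surjective (PrimeSpectrum.comap (algebraMap Γ(U, ⊤) C₀)) :=
    comap_surjective K fun p => ⟨p, by
      rw [IsScalarTower.algebraMap_eq Γ(U, ⊤) p.asIdeal.ResidueField (K p), ← RingHom.comap_ker,
        (RingHom.injective_iff_ker_eq_bot _).1 (algebraMap p.asIdeal.ResidueField (K p)).injective]
      exact Ideal.ker_algebraMap_residueField p.asIdeal⟩
  obtain ⟨C', _, _, s, hfin, hsur', hspan, hmap⟩ := exists_finite_of_integral (C := C₀) hsur (fun k => Γ(W k, ⊤))
    (fun q => by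
      obtain ⟨a, k, h, ha, hcomp⟩ := exists_local_maps W f hs (monicRoot_C K)
        (fun q => isDomain_localization K q.asIdeal) q
      obtain ⟨θ, hθ⟩ := Spec.homEquiv.symm.surjective (h ≫ (W k).isoSpec.hom)
      have hθ' : Spec.map θ = h ≫ (W k).isoSpec.hom := hθ
      have hcomm : (f k).appTop ≫ θ = CommRingCat.ofHom (algebraMap Γ(U, ⊤) (Localization.Away a)) := by
        apply Spec.map_injective
        rw [Spec.map_comp, hθ', Category.assoc, Scheme.isoSpec_hom_naturality, reassoc_of% hcomp, Iso.inv_hom_id]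
        exact Category.comp_id _
      exact ⟨a, k, ha, ⟨{ θ.hom with
        commutes' := fun x => RingHom.congr_fun (congrArg CommRingCat.Hom.hom hcomm) x }⟩⟩)
  let e := s.equivFin
  refine ⟨Spec (CommRingCat.of C'), Spec.map (CommRingCat.ofHom (algebraMap Γ(U, ⊤) C')) ≫ U.isoSpec.inv, s.card,
    fun l => Spec (CommRingCat.of (Localization.Away (e.symm l).1)),
    fun l => Spec.map (CommRingCat.ofHom (algebraMap C' (Localization.Away (e.symm l).1))), ?_, ?_,
    fun l => inferInstance, fun l => IsOpenImmersion.of_isLocalization (e.symm l).1, ?_, ?_⟩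
  · haveI : IsFinite (Spec.map (CommRingCat.ofHom (algebraMap Γ(U, ⊤) C'))) :=
      (IsFinite.SpecMap_iff _).2 (RingHom.finite_algebraMap.2 hfin)
    infer_instance
  · haveI : Surjective (Spec.map (CommRingCat.ofHom (algebraMap Γ(U, ⊤) C'))) := ⟨hsur'⟩
    infer_instance
  · intro x
    obtain ⟨a, ha, hax⟩ : ∃ a ∈ s, a ∉ (x : PrimeSpectrum C').asIdeal := by
      by_contra hall
      push Not at hall
      exact x.isPrime.ne_top (top_le_iff.1 (hspan.ge.trans (Ideal.span_le.2 hall)))
    refine ⟨e ⟨a, ha⟩, ?_⟩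
    show x ∈ Set.range (PrimeSpectrum.comap (algebraMap C' (Localization.Away (e.symm (e ⟨a, ha⟩)).1)))
    rw [PrimeSpectrum.localization_away_comap_range _ (e.symm (e ⟨a, ha⟩)).1, Equiv.symm_apply_apply]
    exact hax
  · intro l
    obtain ⟨k, ⟨φ⟩⟩ := hmap _ (e.symm l).2
    refine ⟨k, Spec.map (CommRingCat.ofHom φ.toRingHom) ≫ (W k).isoSpec.inv, ?_⟩
    rw [Category.assoc, ← Scheme.isoSpec_inv_naturality, ← Spec.map_comp_assoc, ← Spec.map_comp_assoc]
    congr 2
    ext x
    exact (φ.commutes x).trans (IsScalarTower.algebraMap_apply Γ(U, ⊤) C' _ x)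

end Groth.Agent.AICCover
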