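import Mathlib
import Groth.Agent.AICCover.Ring
import Groth.Agent.QFCoverLib.Scheme

/-!
# The absolutely integrally closed integral cover of a scheme

For a scheme `X` we glue the integral closures of `Γ(X, U)` in `∏_{s ∈ U} κ(s)^alg` to an integral
surjective `X`-scheme; every fppf cover of `X` splits Zariski locally on it.
-/

set_option autoImplicit false
set_option linter.style.haveILetI false

universe u

namespace Groth.Agent.AICCover

open CategoryTheory CategoryTheory.Limits AlgebraicGeometry Opposite TopologicalSpace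

noncomputable section

variable (X : Scheme.{u})

/-- The algebraic closure of the residue field of a point of `U`. -/
abbrev Kf (U : X.Opens) (s : U) : Type u := AlgebraicClosure (X.residueField s.1)

instance algKf (U : X.Opens) (s : U) : Algebra Γ(X, U) (Kf X U s) :=
  ((algebraMap (X.residueField s.1) (Kf X U s)).comp (X.evaluation U s.1 s.2).hom).toAlgebra

theorem algKf_apply (U : X.Opens) (s : U) (r : Γ(X, U)) :
    algebraMap Γ(X, U) (Kf X U s) r = algebraMap (X.residueField s.1) (Kf X U s) (X.evaluation U s.1 s.2 r) := rfl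

/-- Restriction of the product of the residue fields. -/
def res {U V : X.Opens} (h : U ≤ V) : (Π s : V, Kf X V s) →+* (Π s : U, Kf X U s) :=
  RingHom.pi fun s => Pi.evalRingHom (Kf X V) ⟨s.1, h s.2⟩

theorem res_algebraMap {U V : X.Opens} (h : U ≤ V) (r : Γ(X, V)) :
    res X h (algebraMap Γ(X, V) _ r) = algebraMap Γ(X, U) _ (X.presheaf.map (homOfLE h).op r) := by
  funext s
  show algebraMap (X.residueField s.1) (AlgebraicClosure (X.residueField s.1)) (X.residue s.1 (X.presheaf.germ V s.1 (h s.2) r)) = _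
  rw [← X.presheaf.germ_res_apply (homOfLE h) s.1 s.2 r]
  rfl

theorem res_isIntegral {U V : X.Opens} (h : U ≤ V) {z : Π s : V, Kf X V s} (hz : IsIntegral Γ(X, V) z) :
    IsIntegral Γ(X, U) (res X h z) :=
  hz.map_of_comp_eq (X.presheaf.map (homOfLE h).op).hom (res X h) (RingHom.ext fun r => (res_algebraMap X h r).symm)

/-- The presheaf of absolute integral closures. -/
def diagram : X.Opensᵒᵖ ⥤ CommRingCat.{u} where
  obj U := .of (C (A := Γ(X, U.unop)) (Kf X U.unop))
  map {V U} i := CommRingCat.ofHom ((res X i.unop.le).restrict _ _ fun _ hx => res_isIntegral X i.unop.le hx)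
  map_id U := rfl
  map_comp i j := rfl

/-- The structure map of the presheaf of absolute integral closures. -/
def diagramMap : X.presheaf ⟶ diagram X where
  app U := CommRingCat.ofHom (algebraMap Γ(X, U.unop) (C (A := Γ(X, U.unop)) (Kf X U.unop)))
  naturality {V U} i := by
    ext r
    exact Subtype.ext (res_algebraMap X i.unop.le r).symm

theorem coequifibered_diagramMap :
    (Functor.whiskerLeft (Scheme.AffineZariskiSite.toOpensFunctor X).op (diagramMap X)).Coequifibered := by
  classical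
  refine Scheme.AffineZariskiSite.coequifibered_iff_forall_isLocalizationAway.mpr fun U r => ?_
  have hle : X.basicOpen r ≤ U.1 := X.basicOpen_le r
  letI : Algebra (C (A := Γ(X, U.1)) (Kf X U.1)) (C (A := Γ(X, X.basicOpen r)) (Kf X (X.basicOpen r))) :=
    ((res X hle).restrict _ _ fun _ hx => res_isIntegral X hle hx).toAlgebra
  show IsLocalization.Away (algebraMap Γ(X, U.1) (C (A := Γ(X, U.1)) (Kf X U.1)) r)
    (C (A := Γ(X, X.basicOpen r)) (Kf X (X.basicOpen r)))
  have hmap : ∀ a : Γ(X, U.1),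
      algebraMap (C (A := Γ(X, U.1)) (Kf X U.1)) (C (A := Γ(X, X.basicOpen r)) (Kf X (X.basicOpen r)))
        (algebraMap Γ(X, U.1) _ a) = algebraMap Γ(X, X.basicOpen r) _ (X.presheaf.map (homOfLE hle).op a) :=
    fun a => Subtype.ext (res_algebraMap X hle a)
  refine (isLocalization_iff _ _).2 ⟨?_, ?_, ?_⟩
  · rintro ⟨_, n, rfl⟩
    show IsUnit (algebraMap _ _ (algebraMap Γ(X, U.1) (C (A := Γ(X, U.1)) (Kf X U.1)) r ^ n))
    rw [map_pow, hmap]
    exact ((RingedSpace.isUnit_res_basicOpen X.toLocallyRingedSpace.toRingedSpace r).map _).pow n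
  · intro z
    letI : Algebra Γ(X, U.1) (Π s : X.basicOpen r, Kf X (X.basicOpen r) s) :=
      ((algebraMap Γ(X, X.basicOpen r) _).comp (X.presheaf.map (homOfLE hle).op).hom).toAlgebra
    letI : Algebra Γ(X, U.1) Γ(X, X.basicOpen r) := (X.presheaf.map (homOfLE hle).op).hom.toAlgebra
    haveI : IsScalarTower Γ(X, U.1) Γ(X, X.basicOpen r) (Π s : X.basicOpen r, Kf X (X.basicOpen r) s) :=
      IsScalarTower.of_algebraMap_eq fun _ => rfl
    haveI : IsLocalization.Away r Γ(X, X.basicOpen r) := U.2.isLocalization_basicOpen r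
    obtain ⟨⟨_, n, rfl⟩, hm⟩ := IsIntegral.exists_multiple_integral_of_isLocalization
      (Submonoid.powers r) (Rₘ := Γ(X, X.basicOpen r)) (z : Π s, Kf X (X.basicOpen r) s) z.2
    obtain ⟨g, hg, hgz⟩ := hm
    let w : Π s : U.1, Kf X U.1 s := fun s =>
      if h : s.1 ∈ X.basicOpen r then ((r ^ n : Γ(X, U.1)) • (z : Π t, Kf X (X.basicOpen r) t)) ⟨s.1, h⟩ else 0
    have hw : IsIntegral Γ(X, U.1) w := by
      refine ⟨Polynomial.X * g, Polynomial.monic_X.mul hg, funext fun s => ?_⟩
      have h1 := Polynomial.hom_eval₂ (Polynomial.X * g) (algebraMap Γ(X, U.1) (Π s : U.1, Kf X U.1 s))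
        (Pi.evalRingHom (Kf X U.1) s) w
      simp only [Pi.evalRingHom_apply] at h1
      rw [h1, Pi.zero_apply, Polynomial.eval₂_mul, Polynomial.eval₂_X]
      show w s * _ = 0
      by_cases h : s.1 ∈ X.basicOpen r
      · have h2 : (res X hle).comp (algebraMap Γ(X, U.1) (Π s : U.1, Kf X U.1 s)) =
            algebraMap Γ(X, U.1) (Π t : X.basicOpen r, Kf X (X.basicOpen r) t) :=
          RingHom.ext (res_algebraMap X hle)
        have h3 : Polynomial.eval₂ ((Pi.evalRingHom (Kf X (X.basicOpen r)) ⟨s.1, h⟩).comp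
            (algebraMap Γ(X, U.1) (Π t : X.basicOpen r, Kf X (X.basicOpen r) t)))
            ((r ^ n • (z : Π t, Kf X (X.basicOpen r) t)) ⟨s.1, h⟩) g = 0 := by
          have := Polynomial.hom_eval₂ g (algebraMap Γ(X, U.1) (Π t : X.basicOpen r, Kf X (X.basicOpen r) t))
            (Pi.evalRingHom (Kf X (X.basicOpen r)) ⟨s.1, h⟩) (r ^ n • (z : Π t, Kf X (X.basicOpen r) t))
          exact this.symm.trans ((congrArg (Pi.evalRingHom (Kf X (X.basicOpen r)) ⟨s.1, h⟩) hgz).trans (map_zero _))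
        rw [← h2] at h3
        refine mul_eq_zero_of_right _ ?_
        simp only [w, dif_pos h]
        exact h3
      · simp only [w, dif_neg h, zero_mul]
    refine ⟨⟨⟨w, hw⟩, ⟨_, n, rfl⟩⟩, Subtype.ext (funext fun t => ?_)⟩
    show (z : Π t, Kf X (X.basicOpen r) t) t * ((algebraMap Γ(X, U.1) (C (A := Γ(X, U.1)) (Kf X U.1)) r ^ n : C (A := Γ(X, U.1)) (Kf X U.1)) : Π s, Kf X U.1 s) ⟨t.1, hle t.2⟩ = w ⟨t.1, hle t.2⟩
    simp only [w, dif_pos t.2, Algebra.smul_def, Pi.mul_apply, SubmonoidClass.coe_pow, Pi.pow_apply]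
    rw [mul_comm]
    congr 1
    rw [map_pow]
    exact congrArg (· ^ n) (congrFun (res_algebraMap X hle r) t)
  · intro x y hxy
    refine ⟨⟨_, 1, rfl⟩, Subtype.ext (funext fun s => ?_)⟩
    show (algebraMap Γ(X, U.1) (Kf X U.1 s) r) ^ 1 * (x : Π s, Kf X U.1 s) s =
      (algebraMap Γ(X, U.1) (Kf X U.1 s) r) ^ 1 * (y : Π s, Kf X U.1 s) s
    by_cases h : s.1 ∈ X.basicOpen r
    · exact congrArg (_ * ·) (congrFun (congrArg Subtype.val hxy) ⟨s.1, h⟩)
    · rw [algKf_apply, (X.evaluation_eq_zero_iff_notMem_basicOpen s.1 s.2 r).2 h]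
      simp

/-- The gluing data of the cover. -/
def glueData := Scheme.AffineZariskiSite.relativeGluingData (coequifibered_diagramMap X)

/-- The absolutely integrally closed cover. -/
def cover : Scheme.{u} := (glueData X).glued

/-- Its structure map. -/
def toBase : cover X ⟶ X := (glueData X).toBase

/-- The chart over an affine open. -/
def chart (U : X.affineOpens) : Spec (CommRingCat.of (C (A := Γ(X, U.1)) (Kf X U.1))) ⟶ cover X :=
  (glueData X).cover.f U

instance (U : X.affineOpens) : IsOpenImmersion (chart X U) :=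
  inferInstanceAs (IsOpenImmersion ((glueData X).cover.f U))

theorem chart_toBase (U : X.affineOpens) :
    chart X U ≫ toBase X =
      Spec.map (CommRingCat.ofHom (algebraMap Γ(X, U.1) (C (A := Γ(X, U.1)) (Kf X U.1)))) ≫ U.2.fromSpec :=
  (glueData X).ι_toBase U

theorem preimage_eq (U : X.affineOpens) : toBase X ⁻¹ᵁ U.1 = (chart X U).opensRange :=
  by simpa using! (glueData X).toBase_preimage_eq_opensRange_ι U

theorem local_property {P : MorphismProperty Scheme.{u}} [IsZariskiLocalAtTarget P]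
    (h : ∀ U : X.affineOpens,
      P (Spec.map (CommRingCat.ofHom (algebraMap Γ(X, U.1) (C (A := Γ(X, U.1)) (Kf X U.1)))))) :
    P (toBase X) := by
  rw [IsZariskiLocalAtTarget.iff_of_iSup_eq_top (P := P) _ (iSup_affineOpens_eq_top X)]
  intro U
  let e := IsOpenImmersion.isoOfRangeEq (toBase X ⁻¹ᵁ U.1).ι (chart X U)
    (by simpa using congrArg SetLike.coe (preimage_eq X U))
  rw [← P.cancel_left_of_respectsIso e.inv, ← P.cancel_right_of_respectsIso _ U.2.isoSpec.hom]
  convert! h U using 1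
  rw [← cancel_mono U.2.fromSpec]
  simp [IsAffineOpen.isoSpec_hom, e, chart_toBase]

theorem ker_eq (U : X.affineOpens) (p : PrimeSpectrum Γ(X, U.1)) :
    ∃ s : U.1, RingHom.ker (algebraMap Γ(X, U.1) (Kf X U.1 s)) = p.asIdeal := by
  have hmem : U.2.fromSpec p ∈ U.1 := U.2.range_fromSpec.le ⟨p, rfl⟩
  refine ⟨⟨U.2.fromSpec p, hmem⟩, Ideal.ext fun r => ?_⟩
  rw [RingHom.mem_ker, algKf_apply, map_eq_zero, X.evaluation_eq_zero_iff_notMem_basicOpen]
  have h : p ∈ U.2.fromSpec ⁻¹ᵁ X.basicOpen r ↔ r ∉ p.asIdeal := by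
    rw [U.2.fromSpec_preimage_basicOpen]; rfl
  exact not_congr h |>.trans not_not

instance isIntegralHom_toBase : IsIntegralHom (toBase X) :=
  local_property X fun U => IsIntegralHom.SpecMap_iff.mpr (algebraMap_isIntegral_iff.mpr inferInstance)

instance surjective_toBase : Surjective (toBase X) :=
  local_property X fun U => ⟨comap_surjective (Kf X U.1) (ker_eq X U)⟩

/-- fppf covers split Zariski locally on the cover. -/
theorem exists_factor {S' : Scheme.{u}} (g : S' ⟶ X) [Flat g] [LocallyOfFinitePresentation g] [Surjective g]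
    (t : cover X) : ∃ (V : (cover X).Opens) (r : ↑V ⟶ S'), t ∈ V ∧ r ≫ g = V.ι ≫ toBase X := by
  obtain ⟨U, hU, htU, -⟩ := exists_isAffineOpen_mem_and_subset (X := X) (x := toBase X t) (U := ⊤) trivial
  haveI : IsAffine U.toScheme := hU
  haveI : Surjective (g ∣_ U) := IsZariskiLocalAtTarget.restrict ‹Surjective g› _
  obtain ⟨W, k, hW, hfl, hfp, hqf, hsu⟩ := QFCoverLib.exists_affine_qf (g ∣_ U)
  let q : W ⟶ Spec Γ(X, U) := (k ≫ g ∣_ U) ≫ hU.isoSpec.hom
  obtain ⟨ψ, hψ⟩ := Spec.homEquiv.symm.surjective (W.isoSpec.inv ≫ q)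
  have hψ' : Spec.map ψ = W.isoSpec.inv ≫ q := hψ
  algebraize [ψ.hom]
  haveI : Module.Flat Γ(X, U) Γ(W, ⊤) := (HasRingHomProperty.Spec_iff (P := @Flat) (φ := ψ)).1 (by
    rw [hψ']; infer_instance)
  haveI : Algebra.FinitePresentation Γ(X, U) Γ(W, ⊤) :=
    (HasRingHomProperty.Spec_iff (P := @LocallyOfFinitePresentation) (φ := ψ)).1 (by rw [hψ']; infer_instance)
  haveI : Algebra.QuasiFinite Γ(X, U) Γ(W, ⊤) :=
    (HasRingHomProperty.Spec_iff (P := @LocallyQuasiFinite) (φ := ψ)).1 (by rw [hψ']; infer_instance)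
  haveI : Module.FaithfullyFlat Γ(X, U) Γ(W, ⊤) := by
    have h : Surjective (Spec.map ψ) := by rw [hψ']; infer_instance
    exact Module.FaithfullyFlat.of_comap_surjective fun y => h.surj y
  obtain ⟨z, rfl⟩ : t ∈ (chart X ⟨U, hU⟩).opensRange := preimage_eq X ⟨U, hU⟩ ▸ htU
  obtain ⟨a, ha, ⟨φ⟩⟩ := exists_local_section (Kf X U) Γ(W, ⊤) z.asIdeal
  let j : Spec (CommRingCat.of (Localization.Away a)) ⟶ cover X :=
    Spec.map (CommRingCat.ofHom (algebraMap (C (A := Γ(X, U)) (Kf X U)) (Localization.Away a))) ≫ chart X ⟨U, hU⟩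
  haveI : IsOpenImmersion (Spec.map (CommRingCat.ofHom
      (algebraMap (C (A := Γ(X, U)) (Kf X U)) (Localization.Away a)))) :=
    IsOpenImmersion.of_isLocalization (S := Localization.Away a) a
  haveI : IsOpenImmersion j := inferInstance
  let r : Spec (CommRingCat.of (Localization.Away a)) ⟶ S' :=
    Spec.map (CommRingCat.ofHom φ.toRingHom) ≫ W.isoSpec.inv ≫ k ≫ (g ⁻¹ᵁ U).ι
  have hr : r ≫ g = j ≫ toBase X := by
    have h1 : (W.isoSpec.inv ≫ k ≫ (g ⁻¹ᵁ U).ι) ≫ g = Spec.map ψ ≫ hU.fromSpec := by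
      rw [hψ', ← IsAffineOpen.isoSpec_inv_ι]
      simp [q, morphismRestrict_ι]
    rw [Category.assoc, h1, Category.assoc, chart_toBase, ← Spec.map_comp_assoc, ← Spec.map_comp_assoc]
    congr 2
    ext x
    exact (φ.commutes x).trans (IsScalarTower.algebraMap_apply Γ(X, U) (C (A := Γ(X, U)) (Kf X U)) _ x)
  refine ⟨j.opensRange, j.isoOpensRange.inv ≫ r, ?_, ?_⟩
  · show chart X ⟨U, hU⟩ z ∈ Set.range j
    have hz : z ∈ Set.range (PrimeSpectrum.comap (algebraMap (C (A := Γ(X, U)) (Kf X U)) (Localization.Away a))) := by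
      rw [PrimeSpectrum.localization_away_comap_range (Localization.Away a) a]
      exact ha
    obtain ⟨w, hw⟩ := hz
    exact ⟨w, congrArg (chart X ⟨U, hU⟩) hw⟩
  · rw [Category.assoc, hr, ← Category.assoc, Scheme.Hom.isoOpensRange_inv_comp]

end

end Groth.Agent.AICCover
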